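import Cfsg.Agent.H141.Ux.Stmts
import Cfsg.Agent.H50.RG.NoG
import Cfsg.Agent.H383.RG.Count
import Cfsg.Agent.H961.RG.L03
import Cfsg.Agent.H358.RG.WittSp
import Cfsg.Agent.H689.RG.WittH
import Cfsg.Agent.H245.RG.WittQ
import Cfsg.Agent.H755.RG.Sing
import Cfsg.Agent.H84.RG.L10
import Cfsg.Agent.H811.RG.LEleven
import Cfsg.Agent.H127.RG.L13
import Cfsg.Agent.H343.RG.Core
import Cfsg.Agent.H50.RG.Small

/-!
# UX (S5716, unbounded rank): UT1, typical elements, blocks `A ⊕ A'` (helper545)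
-/

set_option autoImplicit false
set_option linter.unusedVariables false

namespace Cfsg.Agent.H545.Ux

open Module Cfsg.Agent.H847.Bs Cfsg.Agent.LieClassical.OrthCore Cfsg.Agent.H50.RG Cfsg.Agent.H141.Ux
open Cfsg.Agent.H440.Bs (perp mem_perp mem_perp' finrank_perp)
open Cfsg.Agent.H343.RG (rs rs_apply rs_pow irr_rs s_hyp)

section

variable {F V : Type} [Field F] [AddCommGroup V] [Module F V]

theorem opp_symm {Φ : Frm F V} {A A' C : Submodule F V} (h : Opp Φ A A' C) : Opp Φ A' A C :=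
  ⟨h.ti', h.ti, h.dim.symm, h.disj.symm, by rw [sup_comm]; exact h.compl, h.perp_eq', h.perp_eq⟩

theorem opp_mem_C {Φ : Frm F V} {A A' C : Submodule F V} (h : Opp Φ A A' C) {v : V} (h1 : v ∈ A ⊔ C)
    (h2 : v ∈ A' ⊔ C) : v ∈ C := by
  obtain ⟨a, ha, c, hc, rfl⟩ := Submodule.mem_sup.1 h1
  obtain ⟨a', ha', c', hc', he⟩ := Submodule.mem_sup.1 h2
  have h3 : a - a' = c' - c := by
    rw [sub_eq_sub_iff_add_eq_add, ← he]
    abel
  have h4 : a - a' ∈ (A ⊔ A') ⊓ C := ⟨Submodule.sub_mem _ (Submodule.mem_sup_left ha) (Submodule.mem_sup_right ha'),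
    h3 ▸ C.sub_mem hc' hc⟩
  rw [h.compl.inf_eq_bot, Submodule.mem_bot, sub_eq_zero] at h4
  have h5 : a = 0 := Submodule.disjoint_def.1 h.disj a ha (h4 ▸ ha')
  rw [h5, zero_add]
  exact hc

theorem opp_zero {Φ : Frm F V} {A A' C : Submodule F V} (h : Opp Φ A A' C) {v : V} (h1 : v ∈ A ⊔ C)
    (h2 : v ∈ A') : v = 0 := by
  have h3 := opp_mem_C h h1 (Submodule.mem_sup_left h2)
  have h4 : v ∈ (A ⊔ A') ⊓ C := ⟨Submodule.mem_sup_right h2, h3⟩
  rwa [h.compl.inf_eq_bot, Submodule.mem_bot] at h4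

/-- a hermitian form is not linear in the second variable -/
theorem not_herm [Finite F] {Φ : Frm F V} (hs : ∀ a, Φ.s a = a) : ¬ ∃ r, IsHerm r Φ := by
  rintro ⟨r, h⟩
  have hc := h.card
  have h1 : 1 < Nat.card F := Finite.one_lt_card
  have h2 : 1 < r := by
    rcases Nat.lt_or_ge 1 r with h2 | h2
    · exact h2
    · interval_cases r <;> omega
  obtain ⟨u, hu⟩ := IsCyclic.exists_ofOrder_eq_natCard (α := Fˣ)
  rw [Nat.card_units, hc] at hu
  have h3 : u ^ (r - 1) = 1 := by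
    have h4 : (u : F) ^ r = u := by rw [← h.s, hs]
    apply Units.ext
    rw [Units.val_pow_eq_pow_val, Units.val_one]
    have h5 : (u : F) * (u : F) ^ (r - 1) = (u : F) * 1 := by
      rw [← pow_succ', Nat.sub_add_cancel h2.le, h4, mul_one]
    exact mul_left_cancel₀ u.ne_zero h5
  have h4 := Nat.le_of_dvd (by omega) (orderOf_dvd_of_pow_eq_one h3)
  rw [hu] at h4
  have h5 : r < r ^ 2 := by nlinarith
  omega

variable [Finite F] [Module.Finite F V]

/-- no nonzero `z`-homomorphisms `A → A'` -/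
theorem hom_zero {Φ : Frm F V} {e r : ℕ} (hΦ : Cls Φ e) {A A' C : Submodule F V} (hO : Opp Φ A A' C) {z : V ≃ₗ[F] V}
    (hz : z ∈ Φ.Iso) (hi : Irr z A) (hr : r.Prime) (hzo : orderOf z = r) (hfix : ∀ a ∈ A, z a = a → a = 0)
    (hre : orderOf ((Nat.card F : ℕ) : ZMod r) = e) (φ : A →ₗ[F] A')
    (hφ : ∀ (a : A) (h : z a ∈ A), ((φ ⟨z a, h⟩ : A') : V) = z (φ a)) : φ = 0 := by
  have hd : r ∣ orderOf (rs z A hi.inv) := by
    have h1 : orderOf (rs z A hi.inv) ∣ r := by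
      rw [orderOf_dvd_iff_pow_eq_one, ← hzo]
      ext c
      rw [rs_pow, pow_orderOf_eq_one]
      rfl
    rcases (Nat.dvd_prime hr).1 h1 with h2 | h2
    · exfalso
      rw [orderOf_eq_one_iff] at h2
      apply hi.ne_bot
      rw [Submodule.eq_bot_iff]
      intro a ha
      refine hfix a ha ?_
      have h3 := rs_apply hi.inv ⟨a, ha⟩
      rw [h2] at h3
      exact h3.symm
    · exact h2.symm.dvd
  have h0 := H84.RG.l10 F A e r (rs z A hi.inv) hΦ.2.1 (irr_rs hi) hr hd hre Φ.s (s_hyp hΦ)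
    (fun x w => Φ.B (x : V) (φ w : V)) (fun _ _ _ => Φ.add_left _ _ _)
    (fun x y w => by
      change Φ.B (x : V) (φ (y + w) : V) = _
      rw [map_add]
      exact Φ.add_right _ _ _)
    (fun _ _ _ => Φ.smul_left _ _ _)
    (fun a x y => by
      change Φ.B (x : V) (φ (a • y) : V) = _
      rw [map_smul]
      exact Φ.smul_right _ _ _)
    (fun x y => by
      change Φ.B (z x) (φ (rs z A hi.inv y) : V) = _
      have h1 : (φ (rs z A hi.inv y) : V) = z (φ y) := hφ y (hi.inv y y.2)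
      rw [h1]
      exact hz.1 _ _)
  refine LinearMap.ext fun b => ?_
  apply Subtype.ext
  refine opp_zero hO (v := (φ b : V)) ?_ (φ b).2
  rw [← hO.perp_eq]
  intro a ha
  exact Φ.refl _ _ (h0 ⟨a, ha⟩ b)

/-- **the block `A ⊕ A'` of a good subspace `A`** -/
theorem stA_of_gd {Φ : Frm F V} {e : ℕ} (hΦ : Cls Φ e) {y : V ≃ₗ[F] V} (hy : y ∈ Φ.Iso) {A : Submodule F V}
    (hG : Gd Φ.TI e 2 y A) : ∃ A' z, StA Φ e y A A' z := by
  obtain ⟨Z, A', C, hZy, hcard, hO, hZ1, hZ2⟩ := H343.RG.l14 H84.RG.l10 H127.RG.l24 F V Φ e 2 hΦ le_rfl y hy A hG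
  have hfin := H343.RG.finite_gl F V
  obtain ⟨z₀, hz₀⟩ : ∃ z : Z, z ≠ 1 := by
    have : Nontrivial Z := by
      rw [← Finite.one_lt_card_iff_nontrivial]
      omega
    exact exists_ne 1
  have hz₀1 : (z₀ : V ≃ₗ[F] V) ≠ 1 := fun h => hz₀ (Subtype.ext h)
  obtain ⟨-, -, -, -, r, hr, hrd, hre⟩ := hZ2 z₀ z₀.2 hz₀1
  obtain ⟨z, hzZ, hzo⟩ : ∃ z ∈ Z, orderOf z = r := by
    refine ⟨(z₀ : V ≃ₗ[F] V) ^ (orderOf (z₀ : V ≃ₗ[F] V) / r), pow_mem z₀.2 _, ?_⟩
    exact orderOf_pow_orderOf_div (orderOf_pos _).ne' hrd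
  have hz1 : z ≠ 1 := by
    rintro rfl
    rw [orderOf_one] at hzo
    exact hr.ne_one hzo.symm
  obtain ⟨h1, h2, h3, h4, -⟩ := hZ2 z hzZ hz1
  obtain ⟨hC, hA, hA'⟩ := hZ1 z hzZ
  have hzy : z ∈ Subgroup.zpowers y := hZy hzZ
  have hzI : z ∈ Φ.Iso := (Subgroup.zpowers_le.2 hy) hzy
  have hA0 : A ≠ ⊥ := hG.irr.ne_bot
  have hdA : finrank F A = e := hG.dim
  have hdA' : finrank F A' = e := hO.dim.symm.trans hdA
  have hA'0 : A' ≠ ⊥ := by
    rintro rfl
    rw [finrank_bot] at hdA'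
    have := hΦ.2.1
    omega
  have hi : Irr z A := ⟨hA, hA0, h1⟩
  have hi' : Irr z A' := ⟨hA', hA'0, h3⟩
  have hcomm : ∀ v, y (z v) = z (y v) := by
    intro v
    obtain ⟨k, rfl⟩ := Subgroup.mem_zpowers_iff.1 hzy
    have h : y * y ^ k = y ^ k * y := ((Commute.refl y).zpow_right k).eq
    exact LinearEquiv.congr_fun h v
  refine ⟨A', z, ⟨hzy, hO.ti, hO.ti', hdA, hdA', hO.disj, ?_, hG.irr.inv, ?_, ?_, h1, h3, ?_, ?_, ?_⟩⟩
  · -- nondegenerate
    intro x hx hB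
    have e1 : x ∈ A ⊔ C := by
      rw [← hO.perp_eq]
      exact fun a ha => hB a (Submodule.mem_sup_left ha)
    have e2 : x ∈ A' ⊔ C := by
      rw [← hO.perp_eq']
      exact fun a ha => hB a (Submodule.mem_sup_right ha)
    have e3 : x ∈ (A ⊔ A') ⊓ C := ⟨hx, opp_mem_C hO e1 e2⟩
    rwa [hO.compl.inf_eq_bot, Submodule.mem_bot] at e3
  · -- `y A' ≤ A'`
    intro a' ha'
    -- the component in `A`
    have hcl : IsCompl A (A' ⊔ C) := by
      constructor
      · rw [Submodule.disjoint_def]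
        intro x hx hx'
        exact opp_zero (opp_symm hO) hx' hx
      · rw [codisjoint_iff, ← sup_assoc]
        exact hO.compl.sup_eq_top
    have hsplit : ∀ v : V, ∃ a ∈ A, ∃ w ∈ A' ⊔ C, a + w = v := fun v =>
      Submodule.mem_sup.1 (hcl.sup_eq_top ▸ Submodule.mem_top (x := v))
    have hzw : ∀ w ∈ A' ⊔ C, z w ∈ A' ⊔ C := by
      intro w hw
      obtain ⟨b, hb, c, hc, rfl⟩ := Submodule.mem_sup.1 hw
      rw [map_add, hC c hc]
      exact Submodule.add_mem_sup (hA' b hb) hc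
    let P := A.projectionOnto (A' ⊔ C) hcl
    have hP : ∀ v, P (z v) = ⟨z (P v), hA _ (P v).2⟩ := by
      intro v
      obtain ⟨a, ha, w, hw, rfl⟩ := hsplit v
      have e1 : P a = ⟨a, ha⟩ := Submodule.projectionOnto_apply_left hcl ⟨a, ha⟩
      have e2 : P (z a) = ⟨z a, hA a ha⟩ := Submodule.projectionOnto_apply_left hcl ⟨z a, hA a ha⟩
      have e3 : P w = 0 := Submodule.projectionOnto_apply_right hcl ⟨w, hw⟩
      have e4 : P (z w) = 0 := Submodule.projectionOnto_apply_right hcl ⟨z w, hzw w hw⟩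
      apply Subtype.ext
      rw [map_add, map_add, map_add, e2, e4, add_zero, e1, e3, add_zero]
    have hφ0 := hom_zero hΦ (opp_symm hO) hzI hi' hr hzo h4 hre (P ∘ₗ (y : V →ₗ[F] V) ∘ₗ A'.subtype) (by
      intro a h
      change ((P (y (z a)) : A) : V) = z (P (y a))
      rw [hcomm, hP])
    have hyA' : ∀ b ∈ A', y b ∈ A' ⊔ C := by
      intro b hb
      have e1 : P (y b) = 0 := LinearMap.congr_fun hφ0 ⟨b, hb⟩
      exact (Submodule.projectionOnto_apply_eq_zero_iff hcl).1 e1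
    -- `(z - 1)` is onto on `A'`
    obtain ⟨b, hb⟩ : ∃ b : A', z b - b = a' := by
      let T : A' →ₗ[F] A' := (rs z A' hA').toLinearMap - LinearMap.id
      have hinj : Function.Injective T := by
        rw [injective_iff_map_eq_zero]
        intro a ha
        apply Subtype.ext
        refine h4 a a.2 ?_
        have e1 : ((rs z A' hA' a : A') : V) - a = 0 := congrArg Subtype.val ha
        rw [rs_apply] at e1
        exact sub_eq_zero.1 e1
      obtain ⟨b, hb⟩ := (LinearMap.injective_iff_surjective.1 hinj) ⟨a', ha'⟩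
      refine ⟨b, ?_⟩
      have e1 : ((rs z A' hA' b : A') : V) - b = a' := congrArg Subtype.val hb
      rwa [rs_apply] at e1
    obtain ⟨a₁, ha₁, c, hc, he⟩ := Submodule.mem_sup.1 (hyA' b b.2)
    rw [← hb, map_sub, hcomm, ← he, map_add, hC c hc]
    have e2 : z a₁ + c - (a₁ + c) = z a₁ - a₁ := by abel
    rw [e2]
    exact A'.sub_mem (hA' _ ha₁) ha₁
  · -- trivial on the perp
    intro v hv
    refine hC v (opp_mem_C hO ?_ ?_)
    · rw [← hO.perp_eq]
      exact fun a ha => hv a (Submodule.mem_sup_left ha)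
    · rw [← hO.perp_eq']
      exact fun a ha => hv a (Submodule.mem_sup_right ha)
  · -- no fixed vectors
    intro v hv hzv
    obtain ⟨a, ha, a', ha', rfl⟩ := Submodule.mem_sup.1 hv
    rw [map_add] at hzv
    have e1 : z a - a = a' - z a' := by
      rw [sub_eq_sub_iff_add_eq_add, hzv]
      abel
    have e2 : z a - a = 0 := Submodule.disjoint_def.1 hO.disj _ (A.sub_mem (hA a ha) ha)
      (e1 ▸ A'.sub_mem ha' (hA' a' ha'))
    have e3 : a = 0 := h2 a ha (sub_eq_zero.1 e2)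
    have e4 : a' = 0 := h4 a' ha' (by rw [e2] at e1; exact (sub_eq_zero.1 e1.symm).symm)
    rw [e3, e4, add_zero]
  · intro φ hφ
    exact hom_zero hΦ hO hzI hi hr hzo h2 hre φ hφ
  · refine ⟨by rw [hzo]; exact hr.ne_one, fun s hs hsd => ?_⟩
    rw [hzo] at hsd
    rwa [(Nat.prime_dvd_prime_iff_eq hs hr).1 hsd]

end

/-- **UT1** -/
theorem ut1 : UT1 := by
  intro ε hε
  refine ⟨max 1 (32 / ε), min (1 / 2) (ε / 16), le_max_left _ _, by positivity, ?_⟩
  intro F V _ _ _ _ _ Φ G N t p f hKl hp hcard I hI hK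
  obtain ⟨e₀, he₀⟩ : I.Nonempty := by
    rw [Finset.nonempty_iff_ne_empty]
    rintro rfl
    rw [Finset.sum_empty] at hK
    have := le_max_left (1 : ℝ) (32 / ε)
    linarith
  have hn : 10 ≤ finrank F V := by
    have := (hI e₀ he₀).1.le
    omega
  have hfin : Finite (V ≃ₗ[F] V) := H343.RG.finite_gl F V
  have hIdx : ∀ par, (∀ e ∈ I, e % 2 = par % 2) → Idx ε (finrank F V) (Nat.card F) par 2 I := by
    intro par hpar
    refine ⟨le_rfl, fun e he => ?_, ?_⟩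
    · obtain ⟨hN, -⟩ := hI e he
      have hge := hN.ge
      have hle := hN.le
      refine ⟨by omega, hpar e he, by omega, hN.nd.2.1, hN.nd.2.2, ?_, hN.sum⟩
      refine le_trans ?_ (hcard ▸ hN.big)
      have : 2 ≤ 2 * e + 2 := by omega
      gcongr
    · have h1 : ∑ e ∈ I, 1 / (2 * e : ℝ) = (∑ e ∈ I, 1 / (e : ℝ)) / 2 := by
        rw [Finset.sum_div]
        refine Finset.sum_congr rfl fun e _ => ?_
        rw [div_div, mul_comm]
      have h2 := (le_max_right (1 : ℝ) (32 / ε)).trans hK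
      have h3 : 16 / ε = (32 / ε) / 2 := by ring
      rw [h1, h3]
      linarith
  have key : (∀ e ∈ I, Cls Φ e) → G ≤ Φ.Iso → (noG G Φ.TI 2 I : ℝ) ≤ ε * Nat.card G →
      (cnt G (fun y => ¬ ∃ e ∈ I, ∃ A A' z, StA Φ e y A A' z) : ℝ) ≤ ε * Nat.card G := by
    intro hC hG h
    refine le_trans ?_ h
    have h1 : cnt G (fun y => ¬ ∃ e ∈ I, ∃ A A' z, StA Φ e y A A' z) ≤ noG G Φ.TI 2 I := by
      refine Nat.card_le_card_of_injective
        (fun y => (⟨y.1, y.2.1, fun ⟨e, he, A, hA⟩ => y.2.2 ?_⟩ :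
          {y : V ≃ₗ[F] V // y ∈ G ∧ ¬ ∃ e ∈ I, ∃ A, Gd Φ.TI e 2 y A})) ?_
      · obtain ⟨A', z, hz⟩ := stA_of_gd (hC e he) (hG y.2.1) hA
        exact ⟨e, he, A, A', z, hz⟩
      · intro a b hab
        exact Subtype.ext (congrArg (fun w => w.1) hab)
    exact_mod_cast h1
  have h03 : L03 := fun F _ _ e M he hM h => H961.RG.l03 H383.RG.rg_L25 F e M he hM h
  have h11 : L11 := H811.RG.l11 H84.RG.l10
  rcases hKl with ⟨hΦ, rfl, -, -⟩ | ⟨r, hΦ, rfl, -, -⟩ | ⟨Q, hQ, rfl, rfl, -, -⟩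
  · have hodd : ∀ e ∈ I, Odd e := by
      intro e he
      rcases (hI e he).2 with ⟨-, h⟩ | ⟨h, -⟩
      · exact h
      · exact absurd h (not_herm hΦ.s)
    refine key (fun e he => ⟨hΦ.nd, by have := (hI e he).1.ge; omega, Or.inl ⟨hΦ, hodd e he⟩⟩) le_rfl ?_
    exact noG_sp H383.RG.rg_L02 h03 H358.RG.l05 H755.RG.Sing.l08 l09 h11 hε
      (hIdx 1 fun e he => by rw [Nat.odd_iff.1 (hodd e he)]) hn Φ hΦ
  · have hev : ∀ e ∈ I, Even e := by
      intro e he
      rcases (hI e he).2 with ⟨h, -⟩ | ⟨-, h⟩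
      · exfalso
        rcases h with h | ⟨Q, rfl⟩
        · exact not_herm h.s ⟨r, hΦ⟩
        · exact not_herm (fun _ => rfl) ⟨r, hΦ⟩
      · exact h
    refine key (fun e he => ⟨hΦ.nd, by have := (hI e he).1.ge; omega, Or.inr (Or.inl ⟨r, hΦ, hev e he⟩)⟩)
      inf_le_left ?_
    exact noG_su H383.RG.rg_L02 h03 H689.RG.l06 H755.RG.Sing.l08 l09 h11 hε
      (hIdx 0 fun e he => by rw [Nat.even_iff.1 (hev e he)]) hn r Φ hΦ
  · have hodd : ∀ e ∈ I, Odd e := by
      intro e he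
      rcases (hI e he).2 with ⟨-, h⟩ | ⟨h, -⟩
      · exact h
      · exact absurd h (not_herm (fun _ => rfl))
    refine key (fun e he => ⟨hQ, by have := (hI e he).1.ge; omega, Or.inr (Or.inr ⟨Q, rfl, hodd e he⟩)⟩)
      (e_le_iso Q) ?_
    exact noG_om H383.RG.rg_L02 h03 H245.RG.rg_l07 H755.RG.Sing.l08 l09 h11 hε
      (hIdx 1 fun e he => by rw [Nat.odd_iff.1 (hodd e he)]) hn Q hQ

end Cfsg.Agent.H545.Ux
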